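import Mathlib

/-!
# The class equation of a partition into abelian subgroups of small normalizer index
-/

namespace CfsgLib.PlaneLinear

set_option autoImplicit false

/-- The excluded shape: a cyclic part of index two. -/
def HasHalf {ι : Type*} (S : Finset ι) (m : ι → ℕ) (N : ℕ) : Prop :=
  ∃ i ∈ S, m i * 2 = N ∨ m i = N

theorem solve_three {N a b c : ℕ} (hN : 0 < N) (ha : 2 ≤ a) (hb : 2 ≤ b) (hc : 2 ≤ c)
    (hab : a ≤ b) (hbc : b ≤ c) (ha' : a * 2 ≠ N) (hb' : b * 2 ≠ N) (hc' : c * 2 ≠ N)
    (h : N * (b * c) + N * (a * c) + N * (a * b) = N * (a * b * c) + 2 * (a * b * c)) :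
    N = 12 ∨ N = 24 ∨ N = 60 := by
  have h1 : a * b * c < b * c + a * c + a * b := by
    by_contra hle
    push Not at hle
    have h2 := Nat.mul_le_mul_left N hle
    have : 0 < a * b * c := by positivity
    nlinarith
  have ha2 : a < 3 := by
    by_contra h3
    push Not at h3
    nlinarith [Nat.mul_le_mul_right (b * c) h3, Nat.mul_le_mul_left a hbc, Nat.mul_le_mul_right c hab]
  obtain rfl : a = 2 := by omega
  have hb2 : b < 4 := by
    by_contra h4
    push Not at h4
    nlinarith [Nat.mul_le_mul_right c h4]
  interval_cases b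
  · exfalso
    have h5 : N * 4 = 8 * c := by nlinarith
    omega
  · have hc6 : c < 6 := by nlinarith
    interval_cases c <;> omega

/-- One part of normalizer index one and one of index two. -/
theorem solve_two {N a b : ℕ} (hN : 0 < N) (ha : 2 ≤ a) (hb : 2 ≤ b) (hb' : b * 2 ≠ N)
    (h : 2 * (a * b) * N = 2 * (a * b) + N * (2 * b * (a - 1)) + N * (a * (b - 1))) : N = 12 := by
  obtain ⟨a', rfl⟩ : ∃ a', a = a' + 1 := ⟨a - 1, by omega⟩
  obtain ⟨b', rfl⟩ : ∃ b', b = b' + 1 := ⟨b - 1, by omega⟩
  simp only [Nat.add_sub_cancel] at h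
  have ha4 : a' < 3 := by
    by_contra h4
    push Not at h4
    have h6 : (a' + 1) * b' * N + 2 * ((b' + 1) * a') * N ≥ 2 * ((a' + 1) * (b' + 1)) * N := by
      refine le_of_eq_of_le (show 2 * ((a' + 1) * (b' + 1)) * N = (2 * ((a' + 1) * (b' + 1))) * N from rfl) ?_
      rw [← add_mul]
      refine Nat.mul_le_mul_right N ?_
      nlinarith
    nlinarith
  have ha1 : 1 ≤ a' := by omega
  interval_cases a'
  · exfalso
    have : N * 2 = 4 * (b' + 1) := by nlinarith
    omega
  · have hb2 : b' < 2 := by nlinarith
    have hb1 : 1 ≤ b' := by omega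
    interval_cases b'
    omega

theorem solve {ι : Type*} [DecidableEq ι] (S : Finset ι) (m k : ι → ℕ) {N : ℕ} (hN : 2 ≤ N)
    (hm : ∀ i ∈ S, 2 ≤ m i) (hk : ∀ i ∈ S, k i = 1 ∨ k i = 2)
    (hh : ∀ i ∈ S, m i * 2 ≠ N) (hdvd : ∀ i ∈ S, k i * m i ∣ N) (hprop : ∀ i ∈ S, m i ≠ N)
    (heq : N - 1 = ∑ i ∈ S, N / (k i * m i) * (m i - 1)) :
    N = 12 ∨ N = 24 ∨ N = 60 := by
  -- the contributions
  have hterm : ∀ i ∈ S, 4 * (N / (k i * m i) * (m i - 1)) ≥ N := by
    intro i hi
    obtain ⟨u, hu⟩ := hdvd i hi
    have hpos : 0 < k i * m i := Nat.mul_pos (by have := hk i hi; omega) (by have := hm i hi; omega)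
    rw [hu, Nat.mul_div_cancel_left _ hpos]
    have h1 : k i * m i ≤ 4 * (m i - 1) := by
      rcases hk i hi with h | h <;> rw [h] <;> have := hm i hi <;> omega
    calc k i * m i * u ≤ 4 * (m i - 1) * u := Nat.mul_le_mul_right u h1
      _ = _ := by ring
  have hone : ∀ i ∈ S, k i = 1 → 2 * (N / (k i * m i) * (m i - 1)) ≥ N := by
    intro i hi h
    obtain ⟨u, hu⟩ := hdvd i hi
    rw [h, one_mul] at hu ⊢
    rw [hu, Nat.mul_div_cancel_left _ (by have := hm i hi; omega)]
    have h1 : m i ≤ 2 * (m i - 1) := by have := hm i hi; omega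
    calc m i * u ≤ 2 * (m i - 1) * u := Nat.mul_le_mul_right u h1
      _ = _ := by ring
  have hcard : S.card ≤ 3 := by
    by_contra h4
    have h5 : S.card * N ≤ ∑ i ∈ S, 4 * (N / (k i * m i) * (m i - 1)) := by
      rw [← smul_eq_mul]
      exact Finset.card_nsmul_le_sum S _ _ hterm
    rw [← Finset.mul_sum, ← heq] at h5
    have : 4 * N ≤ S.card * N := Nat.mul_le_mul_right N (by omega)
    omega
  have heq' : ∀ i ∈ S, (k i * m i) * (N / (k i * m i) * (m i - 1)) = N * (m i - 1) := fun i hi => by
    rw [← mul_assoc, Nat.mul_div_cancel' (hdvd i hi)]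
  obtain h0 | h0 | h0 | h0 : S.card = 0 ∨ S.card = 1 ∨ S.card = 2 ∨ S.card = 3 := by omega
  · rw [Finset.card_eq_zero] at h0
    subst h0
    simp at heq
    omega
  · obtain ⟨a, rfl⟩ := Finset.card_eq_one.1 h0
    rw [Finset.sum_singleton] at heq
    have e := heq' a (by simp)
    rw [← heq] at e
    exfalso
    rcases hk a (by simp) with h | h <;> rw [h] at e
    · obtain ⟨N', rfl⟩ : ∃ N', N = N' + 1 := ⟨N - 1, by omega⟩
      obtain ⟨m', hm'⟩ : ∃ m', m a = m' + 1 := ⟨m a - 1, by have := hm a (by simp); omega⟩
      rw [hm'] at e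
      simp only [Nat.add_sub_cancel, one_mul] at e
      have := hprop a (by simp)
      apply this
      rw [hm']
      nlinarith
    · obtain ⟨N', rfl⟩ : ∃ N', N = N' + 1 := ⟨N - 1, by omega⟩
      obtain ⟨m', hm'⟩ : ∃ m', m a = m' + 1 := ⟨m a - 1, by have := hm a (by simp); omega⟩
      rw [hm'] at e
      simp only [Nat.add_sub_cancel] at e
      nlinarith
  · obtain ⟨a, b, hab, rfl⟩ := Finset.card_eq_two.1 h0
    rw [Finset.sum_pair hab] at heq
    have ea := heq' a (by simp)
    have eb := heq' b (by simp)
    have ma := hm a (by simp)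
    have mb := hm b (by simp)
    set x := N / (k a * m a) * (m a - 1)
    set y := N / (k b * m b) * (m b - 1)
    rcases hk a (by simp) with ha | ha <;> rcases hk b (by simp) with hb | hb <;> rw [ha] at ea <;>
      rw [hb] at eb
    · exfalso
      have := hone a (by simp) ha
      have := hone b (by simp) hb
      omega
    · left
      refine solve_two (by omega) ma mb (hh b (by simp)) ?_
      have h1 : N = x + y + 1 := by omega
      calc 2 * (m a * m b) * N = 2 * (m a * m b) * (x + y + 1) := by rw [← h1]
        _ = 2 * (m a * m b) + 2 * m b * (1 * m a * x) + m a * (2 * m b * y) := by ring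
        _ = _ := by rw [ea, eb]; ring
    · left
      refine solve_two (by omega) mb ma (hh a (by simp)) ?_
      have h1 : N = x + y + 1 := by omega
      calc 2 * (m b * m a) * N = 2 * (m b * m a) * (x + y + 1) := by rw [← h1]
        _ = 2 * (m b * m a) + 2 * m a * (1 * m b * y) + m b * (2 * m a * x) := by ring
        _ = _ := by rw [ea, eb]; ring
    · exfalso
      have h2a : 2 * x < N := by
        refine Nat.lt_of_mul_lt_mul_left (a := m a) ?_
        calc m a * (2 * x) = 2 * m a * x := by ring
          _ = N * (m a - 1) := ea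
          _ < N * m a := (Nat.mul_lt_mul_left (show 0 < N by omega)).2 (by omega)
          _ = _ := by ring
      have h2b : 2 * y < N := by
        refine Nat.lt_of_mul_lt_mul_left (a := m b) ?_
        calc m b * (2 * y) = 2 * m b * y := by ring
          _ = N * (m b - 1) := eb
          _ < N * m b := (Nat.mul_lt_mul_left (show 0 < N by omega)).2 (by omega)
          _ = _ := by ring
      have heven : 2 ∣ N := (Dvd.intro (m a) rfl).trans (ha ▸ hdvd a (by simp))
      omega
  · obtain ⟨a, b, c, hab, hac, hbc, rfl⟩ := Finset.card_eq_three.1 h0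
    rw [Finset.sum_insert (by simp [hab, hac]), Finset.sum_pair hbc] at heq
    have ka : k a = 2 := (hk a (by simp)).resolve_left fun h => by
      have := hone a (by simp) h; have := hterm b (by simp); have := hterm c (by simp); omega
    have kb : k b = 2 := (hk b (by simp)).resolve_left fun h => by
      have := hone b (by simp) h; have := hterm a (by simp); have := hterm c (by simp); omega
    have kc : k c = 2 := (hk c (by simp)).resolve_left fun h => by
      have := hone c (by simp) h; have := hterm a (by simp); have := hterm b (by simp); omega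
    have ea := heq' a (by simp)
    have eb := heq' b (by simp)
    have ec := heq' c (by simp)
    rw [ka] at ea heq
    rw [kb] at eb heq
    rw [kc] at ec heq
    obtain ⟨a', ha⟩ : ∃ a', m a = a' + 1 := ⟨m a - 1, by have := hm a (by simp); omega⟩
    obtain ⟨b', hb⟩ : ∃ b', m b = b' + 1 := ⟨m b - 1, by have := hm b (by simp); omega⟩
    obtain ⟨c', hc⟩ : ∃ c', m c = c' + 1 := ⟨m c - 1, by have := hm c (by simp); omega⟩
    have key : N * (m b * m c) + N * (m a * m c) + N * (m a * m b) =
        N * (m a * m b * m c) + 2 * (m a * m b * m c) := by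
      simp only [ha, hb, hc, Nat.add_sub_cancel] at ea eb ec heq ⊢
      set x := N / (2 * (a' + 1)) * a'
      set y := N / (2 * (b' + 1)) * b'
      set z := N / (2 * (c' + 1)) * c'
      have h1 : N = x + (y + z) + 1 := by omega
      have h2 : 2 * ((a' + 1) * (b' + 1) * (c' + 1)) * N = 2 * ((a' + 1) * (b' + 1) * (c' + 1)) +
          N * a' * ((b' + 1) * (c' + 1)) + N * b' * ((a' + 1) * (c' + 1)) + N * c' * ((a' + 1) * (b' + 1)) := by
        rw [← ea, ← eb, ← ec]
        conv_lhs => rw [h1]
        ring
      linarith [h2]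
    have A := hm a (by simp)
    have B := hm b (by simp)
    have C := hm c (by simp)
    have A' := hh a (by simp)
    have B' := hh b (by simp)
    have C' := hh c (by simp)
    rcases le_total (m a) (m b) with p | p <;> rcases le_total (m a) (m c) with q | q <;>
      rcases le_total (m b) (m c) with r | r <;>
      first
      | exact solve_three (by omega) A B C (by omega) (by omega) A' B' C' key
      | exact solve_three (by omega) A C B (by omega) (by omega) A' C' B' (by linarith [key])
      | exact solve_three (by omega) B A C (by omega) (by omega) B' A' C' (by linarith [key])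
      | exact solve_three (by omega) B C A (by omega) (by omega) B' C' A' (by linarith [key])
      | exact solve_three (by omega) C A B (by omega) (by omega) C' A' B' (by linarith [key])
      | exact solve_three (by omega) C B A (by omega) (by omega) C' B' A' (by linarith [key])

end CfsgLib.PlaneLinear
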