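import Cfsg.Agent.Lib.PlaneLinear.Counting
import Cfsg.Agent.Lib.PSolvableLinear.Main

/-!
# Primitive linear groups of degree two
-/

namespace CfsgLib.PlaneLinear

open Cfsg CfsgLib CfsgLib.CharTheory CfsgLib.Blocks CfsgLib.PSolvableLinear
open scoped ComplexConjugate

set_option autoImplicit false
set_option linter.unusedSectionVars false
set_option linter.style.haveILetI false

universe u

variable {G : Type u} [Group G] [Fintype G]

/-- The hypotheses. -/
structure PlaneData (χ : G → ℂ) : Prop where
  irr : IsIrrCharacter G χ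
  two : χ 1 = 2
  faith : ∀ g : G, χ g = χ 1 → g = 1
  prim : ∀ H : Subgroup G, H ≠ ⊤ → ∀ θ : H → ℂ, IsCharacter H θ → χ ≠ indFun H θ

variable {χ : G → ℂ}

/-- A character value of maximal modulus forces centrality. -/
theorem central_of_norm (h : PlaneData χ) {c : G} (hc : ‖χ c‖ = 2) : c ∈ Subgroup.center G := by
  obtain ⟨n, ρ, hρ⟩ := isCharacter_of_irr h.irr
  obtain ⟨ω, hω⟩ := eq_smul_id_of_norm_character_eq ρ c (by
    have hrk : (Module.finrank ℂ (Fin n → ℂ) : ℂ) = (2 : ℂ) := by rw [← ρ.char_one, hρ, h.two]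
    rw [hρ, hc]
    exact_mod_cast hrk.symm)
  rw [Subgroup.mem_center_iff]
  intro g
  rw [← mul_inv_eq_iff_eq_mul, ← mul_inv_eq_one]
  refine h.faith _ ?_
  have h1 : ρ (g * c) = ρ (c * g) := by
    rw [ρ.map_mul, ρ.map_mul, hω]
    refine LinearMap.ext fun w => ?_
    simp
  rw [show g * c * g⁻¹ * c⁻¹ = (g * c) * (c * g)⁻¹ by group, ← hρ, Representation.character,
    Representation.character, ρ.map_mul, h1, ← ρ.map_mul, mul_inv_cancel]

/-- If a subgroup has a linear constituent decomposition, it is abelian. -/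
theorem comm_of_linear (h : PlaneData χ) (A : Subgroup G) [Fintype A]
    (hlin : ∀ α : IrrCharacter A, classInner (fun a : A => χ a) (α : A → ℂ) ≠ 0 → (α : A → ℂ) 1 = 1) :
    ∀ a ∈ A, ∀ b ∈ A, a * b = b * a := by
  classical
  intro a ha b hb
  rw [← mul_inv_eq_iff_eq_mul, ← mul_inv_eq_one]
  refine h.faith _ ?_
  set x : A := ⟨a, ha⟩
  set y : A := ⟨b, hb⟩
  have hcl : IsClassFunction A (fun a : A => χ a) :=
    isClassFunction_char (isCharacter_restrict (isCharacter_of_irr h.irr) A)
  show (fun a : A => χ a) (x * y * x⁻¹ * y⁻¹) = (fun a : A => χ a) 1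
  rw [eq_sum_irr hcl]
  simp only [Finset.sum_apply, Pi.smul_apply, smul_eq_mul]
  refine Finset.sum_congr rfl fun α _ => ?_
  by_cases h0 : classInner (fun a : A => χ a) (α : A → ℂ) = 0
  · rw [h0, zero_mul, zero_mul]
  obtain ⟨f, hf⟩ := exists_hom_of_degree_one (isCharacter_of_irr α.2) (hlin α h0)
  rw [hf]
  congr 1
  show (f (x * y * x⁻¹ * y⁻¹) : ℂ) = (f 1 : ℂ)
  rw [map_mul, map_mul, map_mul, map_inv, map_inv, map_one, mul_right_comm (f x), mul_inv_cancel,
    one_mul, mul_inv_cancel]

/-- Centralizers of non-central elements are abelian. -/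
theorem centralizer_comm (h : PlaneData χ) {g : G} (hg : g ∉ Subgroup.center G) :
    ∀ a ∈ Subgroup.centralizer ({g} : Set G), ∀ b ∈ Subgroup.centralizer ({g} : Set G), a * b = b * a := by
  classical
  set C := Subgroup.centralizer ({g} : Set G)
  haveI := Fintype.ofFinite C
  refine comm_of_linear h C fun α hα => ?_
  obtain ⟨c, hc, hcn⟩ := res_decomp (isCharacter_of_irr h.irr) C (n := 2) (by rw [h.two]; norm_num)
  obtain ⟨d, hd0, hd⟩ := irr_degree_pos α.2
  have hcα : c α ≠ 0 := by
    intro h0
    apply hα
    rw [show (fun a : C => χ a) = ∑ β : IrrCharacter C, (c β : ℂ) • (β : C → ℂ) from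
      funext fun u => by rw [hc]; simp [Finset.sum_apply], classInner_sum_left]
    refine Finset.sum_eq_zero fun β _ => ?_
    by_cases hb : β = α
    · rw [hb, h0, Nat.cast_zero, classInner_smul_left, zero_mul]
    · rw [classInner_smul_left, classInner_irr_ne β.2 α.2 (fun e => hb (Subtype.ext e)), mul_zero]
  have hdd : charDegree (α : C → ℂ) = d := by simp [charDegree, hd]
  have hle : c α * d ≤ 2 := by
    rw [hcn, ← hdd]
    exact Finset.single_le_sum (f := fun β => c β * charDegree _) (fun _ _ => Nat.zero_le _) (Finset.mem_univ α)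
  by_contra hne
  have hd2 : d = 2 := by
    have : d ≠ 1 := fun e => hne (by rw [hd, e, Nat.cast_one])
    have := Nat.le_mul_of_pos_left d (Nat.pos_of_ne_zero hcα)
    omega
  subst hd2
  have hc1 : c α = 1 := by
    have := Nat.pos_of_ne_zero hcα
    omega
  have hres : ∀ u : C, χ u = (α : C → ℂ) u := fun u => by
    rw [hc, Finset.sum_eq_single α, hc1, Nat.cast_one, one_mul]
    · intro β _ hb
      have h1 := Finset.add_le_sum (f := fun β : IrrCharacter C => c β * charDegree (β : C → ℂ))
        (fun _ _ => Nat.zero_le _) (Finset.mem_univ β) (Finset.mem_univ α) hb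
      rw [← hcn, hdd, hc1, one_mul] at h1
      obtain ⟨d', hd', e'⟩ := irr_degree_pos β.2
      have hdb : charDegree (β : C → ℂ) = d' := by simp [charDegree, e']
      rw [hdb] at h1
      have : c β = 0 := by
        rcases Nat.eq_zero_or_pos (c β) with h0 | h0
        · exact h0
        · have := Nat.mul_pos h0 hd'
          omega
      rw [this, Nat.cast_zero, zero_mul]
    · simp
  apply hg
  refine central_of_norm h ?_
  have hgC : g ∈ C := Subgroup.mem_centralizer_singleton_iff.2 rfl
  set gC : C := ⟨g, hgC⟩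
  have hz : Subgroup.zpowers gC ≤ Subgroup.center C := Subgroup.zpowers_le.2
    (Subgroup.mem_center_iff.2 fun u => Subtype.ext (Subgroup.mem_centralizer_singleton_iff.1 u.2))
  haveI := Fintype.ofFinite (Subgroup.zpowers gC)
  obtain ⟨ν, hν, hνc⟩ := exists_constituent
    (isCharacter_restrict (isCharacter_of_irr α.2) (Subgroup.zpowers gC))
    (fun h => irr_ne_zero α.2 (congrFun h 1))
  have hν1 : ν 1 = 1 := degree_one_of_commutative (fun a b => Subtype.ext
    ((Subgroup.mem_center_iff.1 (hz b.2)) a)) hν
  obtain ⟨f, hf⟩ := exists_hom_of_degree_one (isCharacter_of_irr hν) hν1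
  have h1 := FongSwan.central_apply hz (χ := α) (μ := ⟨ν, hν⟩)
    (by rw [FongSwan.mult_ne_zero_iff]; exact hνc) ⟨gC, Subgroup.mem_zpowers gC⟩
  simp only [hν1, div_one] at h1
  rw [show χ g = χ ((gC : C) : G) from rfl, hres, h1, hd, hf, norm_mul, Complex.norm_natCast,
    Complex.norm_eq_one_of_pow_eq_one (by rw [← Units.val_pow_eq_pow_val, ← map_pow,
      pow_orderOf_eq_one, map_one, Units.val_one]) (orderOf_pos (⟨gC, Subgroup.mem_zpowers gC⟩ :
      Subgroup.zpowers gC)).ne', mul_one]
  norm_num

/-- There is no abelian subgroup of index at most two. -/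
theorem no_abelian_half (h : PlaneData χ) (A : Subgroup G) (hA : ∀ a ∈ A, ∀ b ∈ A, a * b = b * a)
    (hidx : A.index ≤ 2) : False := by
  classical
  haveI := Fintype.ofFinite A
  obtain ⟨ν, hν, hνc⟩ := exists_constituent (isCharacter_restrict (isCharacter_of_irr h.irr) A)
    (fun e => irr_ne_zero h.irr (congrFun e 1))
  have hν1 : ν 1 = 1 := degree_one_of_commutative (fun a b => Subtype.ext (hA a a.2 b b.2)) hν
  have hind := isCharacter_indFun A (isCharacter_of_irr hν)
  choose c hc using fun ψ : IrrCharacter G => classInner_char_nat hind (isCharacter_of_irr ψ.2)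
  have hsum := eq_sum_irr (indFun_isClassFunction A ν)
  set X : IrrCharacter G := ⟨χ, h.irr⟩
  have hcX : 1 ≤ c X := by
    rcases Nat.eq_zero_or_pos (c X) with h0 | h0
    · exfalso
      have h1 := hc X
      rw [h0, Nat.cast_zero, frobenius_reciprocity A ν (isClassFunction_irr h.irr), ← classInner_comm,
        map_eq_zero] at h1
      exact hνc h1
    · exact h0
  have hdeg : A.index = ∑ ψ : IrrCharacter G, c ψ * charDegree (ψ : G → ℂ) := by
    have h1 := congrFun hsum 1
    simp only [Finset.sum_apply, Pi.smul_apply, smul_eq_mul, hc, ← irr_charDegree_cast,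
      indFun_apply_one, hν1, mul_one] at h1
    exact_mod_cast h1
  have hX2 : charDegree χ = 2 := by simp [charDegree, h.two]
  have hle := Finset.single_le_sum (f := fun ψ : IrrCharacter G => c ψ * charDegree (ψ : G → ℂ))
    (fun _ _ => Nat.zero_le _) (Finset.mem_univ X)
  rw [← hdeg] at hle
  have hle' : c X * 2 ≤ A.index := by rw [← hX2]; exact hle
  have hA2 : A.index = 2 := by omega
  refine h.prim A (fun e => by rw [e, Subgroup.index_top] at hA2; omega) ν (isCharacter_of_irr hν) ?_
  rw [hsum, Finset.sum_eq_single X, hc, show c X = 1 by omega, Nat.cast_one, one_smul]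
  · intro ψ _ hne
    have h1 := Finset.add_le_sum (f := fun ψ : IrrCharacter G => c ψ * charDegree (ψ : G → ℂ))
      (fun _ _ => Nat.zero_le _) (Finset.mem_univ ψ) (Finset.mem_univ X) hne
    rw [← hdeg, hA2, show c X = 1 by omega, one_mul, show charDegree (X : G → ℂ) = 2 from hX2] at h1
    obtain ⟨d, hd0, hd⟩ := irr_degree_pos ψ.2
    rw [show charDegree (ψ : G → ℂ) = d by simp [charDegree, hd]] at h1
    rw [hc]
    have : c ψ = 0 := by
      rcases Nat.eq_zero_or_pos (c ψ) with h0 | h0
      · exact h0
      · have := Nat.mul_pos h0 hd0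
        omega
    rw [this, Nat.cast_zero, zero_smul]
  · simp

/-- The normalizer of the centralizer of a non-central element has index at most two over it. -/
theorem normalizer_index (h : PlaneData χ) {g : G} (hg : g ∉ Subgroup.center G) :
    (Subgroup.centralizer ({g} : Set G)).relIndex
      (Subgroup.normalizer ((Subgroup.centralizer ({g} : Set G) : Subgroup G) : Set G)) ≤ 2 := by
  classical
  set A := Subgroup.centralizer ({g} : Set G) with hA
  haveI := Fintype.ofFinite A
  have hab := centralizer_comm h hg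
  set N := Subgroup.normalizer (A : Set G) with hN
  have hgA : g ∈ A := Subgroup.mem_centralizer_singleton_iff.2 rfl
  have hcA : ∀ α : IrrCharacter A, (α : A → ℂ) 1 = 1 := fun α =>
    degree_one_of_commutative (fun a b => Subtype.ext (hab a a.2 b b.2)) α.2
  obtain ⟨c, hc, hcn⟩ := res_decomp (isCharacter_of_irr h.irr) A (n := 2) (by rw [h.two]; norm_num)
  set S := Finset.univ.filter fun α : IrrCharacter A => c α ≠ 0 with hS
  have hScard : S.card ≤ 2 := by
    rw [hcn, Finset.card_eq_sum_ones]
    refine le_trans (Finset.sum_le_sum fun α hα => ?_) (Finset.sum_le_univ_sum_of_nonneg fun _ => Nat.zero_le _)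
    rw [show charDegree (α : A → ℂ) = 1 by simp [charDegree, hcA α], mul_one]
    exact Nat.one_le_iff_ne_zero.2 (Finset.mem_filter.1 hα).2
  -- conjugation permutes the constituents
  have hmem : ∀ n ∈ N, ∀ a ∈ A, n * a * n⁻¹ ∈ A := fun n hn a ha =>
    (Subgroup.mem_normalizer_iff.1 hn a).1 ha
  let e : N → (A ≃* A) := fun n =>
    { toFun := fun a => ⟨n * a * (n : G)⁻¹, hmem n n.2 a a.2⟩
      invFun := fun a => ⟨(n : G)⁻¹ * a * n, by
        have := hmem (n : G)⁻¹ (inv_mem n.2) a a.2
        rwa [inv_inv] at this⟩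
      left_inv := fun a => Subtype.ext (by show (n : G)⁻¹ * (n * a * (n : G)⁻¹) * n = a; group)
      right_inv := fun a => Subtype.ext (by show (n : G) * ((n : G)⁻¹ * a * n) * (n : G)⁻¹ = a; group)
      map_mul' := fun a b => Subtype.ext (by
        show (n : G) * ((a : G) * b) * (n : G)⁻¹ = n * a * (n : G)⁻¹ * (n * b * (n : G)⁻¹); group) }
  let act : N → IrrCharacter A → IrrCharacter A := fun n α =>
    ⟨fun a => (α : A → ℂ) (e n a), isIrrCharacter_comp_surjective α.2 (e n).toMonoidHom (e n).surjective⟩
  have hactc : ∀ n α, c (act n α) = c α := by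
    intro n α
    have hval : ∀ β : IrrCharacter A, (c β : ℂ) = classInner (fun a : A => χ a) (β : A → ℂ) := fun β => by
      rw [show (fun a : A => χ a) = ∑ γ : IrrCharacter A, (c γ : ℂ) • (γ : A → ℂ) from
        funext fun u => by rw [hc]; simp [Finset.sum_apply], classInner_sum_left, Finset.sum_eq_single β,
        classInner_smul_left, classInner_irr_self β.2, mul_one]
      · intro γ _ hb
        rw [classInner_smul_left, classInner_irr_ne γ.2 β.2 (fun e => hb (Subtype.ext e)), mul_zero]
      · simp
    refine Nat.cast_injective (R := ℂ) ?_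
    rw [hval, hval]
    simp only [classInner]
    congr 1
    refine Fintype.sum_equiv (e n).toEquiv _ _ fun a => ?_
    show χ a * conj ((α : A → ℂ) (e n a)) = χ ((n : G) * a * (n : G)⁻¹) * conj ((α : A → ℂ) (e n a))
    rw [isClassFunction_irr h.irr]
  have hactS : ∀ n, ∀ α ∈ S, act n α ∈ S := fun n α hα =>
    Finset.mem_filter.2 ⟨Finset.mem_univ _, by rw [hactc]; exact (Finset.mem_filter.1 hα).2⟩
  -- fixing the constituents means centralizing
  have hfix : ∀ n : N, (∀ α ∈ S, act n α = α) → (n : G) ∈ A := by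
    intro n hn
    rw [hA, Subgroup.mem_centralizer_singleton_iff, ← mul_inv_eq_iff_eq_mul, ← mul_inv_eq_one]
    refine h.faith _ ?_
    set gA : A := ⟨g, hgA⟩
    show χ (((e n gA * gA⁻¹ : A)) : G) = χ ((1 : A) : G)
    rw [hc, hc]
    refine Finset.sum_congr rfl fun α _ => ?_
    by_cases h0 : c α = 0
    · rw [h0, Nat.cast_zero, zero_mul, zero_mul]
    congr 1
    obtain ⟨f, hf⟩ := exists_hom_of_degree_one (isCharacter_of_irr α.2) (hcA α)
    have h1 := congrFun (congrArg Subtype.val (hn α (Finset.mem_filter.2 ⟨Finset.mem_univ _, h0⟩))) gA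
    have h2 : (α : A → ℂ) (e n gA) = (α : A → ℂ) gA := h1
    rw [hf] at h2 ⊢
    have h3 : f (e n gA) = f gA := Units.ext h2
    show (f (e n gA * gA⁻¹) : ℂ) = (f 1 : ℂ)
    rw [map_mul, map_inv, h3, mul_inv_cancel, map_one]
  -- two classes
  have htwo : ∀ n n' : N, (n : G) ∉ A → (n' : G) ∉ A → (n : G)⁻¹ * n' ∈ A := by
    intro n n' hn hn'
    obtain ⟨a, ha, hna⟩ : ∃ α ∈ S, act n α ≠ α := by
      by_contra hcon; push Not at hcon; exact hn (hfix n hcon)
    obtain ⟨a', ha', hna'⟩ : ∃ α ∈ S, act n' α ≠ α := by
      by_contra hcon; push Not at hcon; exact hn' (hfix n' hcon)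
    refine (hfix (n⁻¹ * n') fun α hα => ?_ : ((n⁻¹ * n' : N) : G) ∈ A)
    have hcomp : act (n⁻¹ * n') α = act n' (act n⁻¹ α) := by
      refine Subtype.ext (funext fun x => congrArg (α : A → ℂ) (Subtype.ext ?_))
      show ((n : G)⁻¹ * n') * x * ((n : G)⁻¹ * n')⁻¹ = (n : G)⁻¹ * ((n' : G) * x * (n' : G)⁻¹) * ((n : G)⁻¹)⁻¹
      group
    rw [hcomp]
    have hinvn : ∀ β, act n (act n⁻¹ β) = β := fun β => by
      refine Subtype.ext (funext fun x => congrArg (β : A → ℂ) (Subtype.ext ?_))
      show (n : G)⁻¹ * ((n : G) * x * (n : G)⁻¹) * ((n : G)⁻¹)⁻¹ = x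
      group
    have hinvn' : ∀ β, act n⁻¹ (act n β) = β := fun β => by
      refine Subtype.ext (funext fun x => congrArg (β : A → ℂ) (Subtype.ext ?_))
      show (n : G) * ((n : G)⁻¹ * x * ((n : G)⁻¹)⁻¹) * (n : G)⁻¹ = x
      group
    -- a set with at most two elements and fixed-point-free self-maps
    have hswap : ∀ m : N, (∃ β ∈ S, act m β ≠ β) → (Function.Injective (act m)) → ∀ β ∈ S, act m β ≠ β := by
      rintro m ⟨β₀, hβ₀, hne⟩ hinj β hβ heq
      have hne2 : β ≠ β₀ := fun e => hne (e ▸ heq)
      have h3 : ({β, β₀, act m β₀} : Finset (IrrCharacter A)).card = 3 :=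
        Finset.card_eq_three.2 ⟨β, β₀, act m β₀, hne2, fun e => hne2 (hinj (heq.trans e)), Ne.symm hne, rfl⟩
      have h4 := Finset.card_le_card (show ({β, β₀, act m β₀} : Finset (IrrCharacter A)) ⊆ S by
        simp only [Finset.insert_subset_iff, Finset.singleton_subset_iff]
        exact ⟨hβ, hβ₀, hactS m β₀ hβ₀⟩)
      omega
    have hinjact : ∀ m : N, Function.Injective (act m) := by
      intro m x y hxy
      refine Subtype.ext (funext fun u => ?_)
      have := congrFun (congrArg Subtype.val hxy) ((e m).symm u)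
      simpa [act] using this
    set β := act n⁻¹ α with hβ
    have hβS : β ∈ S := hactS _ α hα
    have h5 : act n β ≠ β := hswap n ⟨a, ha, hna⟩ (hinjact n) β hβS
    have h6 : act n' β ≠ β := hswap n' ⟨a', ha', hna'⟩ (hinjact n') β hβS
    rw [← hinvn α, ← hβ]
    by_contra h7
    have h3 : ({β, act n β, act n' β} : Finset (IrrCharacter A)).card = 3 :=
      Finset.card_eq_three.2 ⟨β, act n β, act n' β, Ne.symm h5, Ne.symm h6, Ne.symm h7, rfl⟩
    have h4 := Finset.card_le_card (show ({β, act n β, act n' β} : Finset (IrrCharacter A)) ⊆ S by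
      simp only [Finset.insert_subset_iff, Finset.singleton_subset_iff]
      exact ⟨hβS, hactS _ _ hβS, hactS _ _ hβS⟩)
    omega
  -- the index
  rw [Subgroup.relIndex]
  show Nat.card (N ⧸ A.subgroupOf N) ≤ 2
  by_cases hall : ∀ n : N, (n : G) ∈ A
  · have : A.subgroupOf N = ⊤ := eq_top_iff.2 fun n _ => Subgroup.mem_subgroupOf.2 (hall n)
    rw [← Subgroup.index, this, Subgroup.index_top]
    omega
  · push Not at hall
    obtain ⟨n₀, hn₀⟩ := hall
    have hsurj : Function.Surjective (fun b : Bool => ((if b then n₀ else 1 : N) : N ⧸ A.subgroupOf N)) := by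
      intro q
      induction q using QuotientGroup.induction_on with
      | _ n =>
        by_cases hn : (n : G) ∈ A
        · refine ⟨false, ?_⟩
          simp only [Bool.false_eq_true, if_false]
          rw [QuotientGroup.eq, inv_one, one_mul]
          exact Subgroup.mem_subgroupOf.2 hn
        · refine ⟨true, ?_⟩
          simp only [if_true]
          rw [QuotientGroup.eq]
          exact Subgroup.mem_subgroupOf.2 (htwo n₀ n hn₀ hn)
    refine (Nat.card_le_card_of_surjective _ hsurj).trans ?_
    simp

/-- Primitive groups of degree two. -/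
theorem index_center (h : PlaneData χ) :
    (Subgroup.center G).index = 12 ∨ (Subgroup.center G).index = 24 ∨ (Subgroup.center G).index = 60 := by
  classical
  set Z := Subgroup.center G with hZ
  set N := Z.index with hN
  set z := Nat.card Z with hz
  have hz0 : 0 < z := Nat.card_pos
  let C : G → Subgroup G := fun g => Subgroup.centralizer ({g} : Set G)
  set T := Finset.univ.filter fun g : G => g ∉ Z with hT
  -- a centralizer is the centralizer of each of its non-central elements
  have hCC : ∀ g, g ∉ Z → ∀ x ∈ C g, x ∉ Z → C x = C g := by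
    intro g hg x hx hxZ
    refine le_antisymm (fun y hy => ?_) (fun y hy => ?_)
    · have h1 : g ∈ C x := Subgroup.mem_centralizer_singleton_iff.2
        (Subgroup.mem_centralizer_singleton_iff.1 hx).symm
      exact Subgroup.mem_centralizer_singleton_iff.2 (centralizer_comm h hxZ y hy g h1)
    · exact Subgroup.mem_centralizer_singleton_iff.2 (centralizer_comm h hg y hy x hx)
  let conjC : Subgroup G → G → Subgroup G := fun A x => A.map (MulAut.conj x).toMonoidHom
  have hconj : ∀ g x : G, conjC (C g) x = C (x * g * x⁻¹) := by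
    intro g x
    ext y
    simp only [conjC, C, Subgroup.mem_map, MulEquiv.coe_toMonoidHom, MulAut.conj_apply,
      Subgroup.mem_centralizer_singleton_iff]
    constructor
    · rintro ⟨w, hw, rfl⟩
      calc x * w * x⁻¹ * (x * g * x⁻¹) = x * (w * g) * x⁻¹ := by group
        _ = x * (g * w) * x⁻¹ := by rw [hw]
        _ = x * g * x⁻¹ * (x * w * x⁻¹) := by group
    · intro hy
      refine ⟨x⁻¹ * y * x, ?_, by group⟩
      calc x⁻¹ * y * x * g = x⁻¹ * (y * (x * g * x⁻¹)) * x := by group
        _ = x⁻¹ * (x * g * x⁻¹ * y) * x := by rw [hy]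
        _ = g * (x⁻¹ * y * x) := by group
  have hone : ∀ B : Subgroup G, conjC B 1 = B := fun B => by
    ext u
    simp [conjC]
  let cls : G → Finset (Subgroup G) := fun g => Finset.univ.image (conjC (C g))
  set O := T.image cls with hO
  -- one class
  have hclass : ∀ g, g ∉ Z → ∃ k m : ℕ, (k = 1 ∨ k = 2) ∧ 2 ≤ m ∧ k * m ∣ N ∧ m * 2 ≠ N ∧ m ≠ N ∧
      (T.filter fun y => cls y = cls g).card = N / (k * m) * (m - 1) * z ∧ m = Z.relIndex (C g) ∧
      k = (C g).relIndex (Subgroup.normalizer (C g : Set G)) := by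
    intro g hg
    set A := C g with hA
    set W := Subgroup.normalizer (A : Set G) with hW
    have hZA : Z ≤ A := fun u hu => Subgroup.mem_centralizer_singleton_iff.2
      (Subgroup.mem_center_iff.1 hu g).symm
    have hgA : g ∈ A := Subgroup.mem_centralizer_singleton_iff.2 rfl
    set m := Z.relIndex A with hm
    set k := A.relIndex W with hk
    have hidx : Z.index = m * A.index := (Subgroup.relIndex_mul_index hZA).symm
    have hidx2 : A.index = k * W.index := (Subgroup.relIndex_mul_index Subgroup.le_normalizer).symm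
    have hm2 : 2 ≤ m := by
      have h1 : m ≠ 1 := fun e => hg (Subgroup.relIndex_eq_one.1 e hgA)
      have h0 : m ≠ 0 := fun e => Subgroup.index_ne_zero_of_finite (hidx.trans (by rw [e, zero_mul]))
      omega
    have hkpos : k ≠ 0 := fun e => Subgroup.index_ne_zero_of_finite (hidx2.trans (by rw [e, zero_mul]))
    have hk12 : k = 1 ∨ k = 2 := by
      have : k ≤ 2 := normalizer_index h hg
      omega
    have hbad : A.index ≤ 2 → False := fun hle => no_abelian_half h A (centralizer_comm h hg) hle
    refine ⟨k, m, hk12, hm2, ⟨W.index, by rw [hN, hidx, hidx2]; ring⟩, ?_, ?_, ?_, rfl, rfl⟩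
    · intro e
      rw [hN, hidx] at e
      exact hbad (Nat.eq_of_mul_eq_mul_left (by omega) e).ge
    · intro e
      rw [hN, hidx] at e
      have : 1 = A.index := Nat.eq_of_mul_eq_mul_left (show 0 < m by omega) (by rw [mul_one]; exact e)
      exact hbad (by omega)
    -- the conjugates
    have hcardimg : (cls g).card * Nat.card W = Nat.card G := by
      rw [Nat.card_eq_fintype_card (α := G), ← Finset.card_univ,
        Finset.card_eq_sum_card_image (conjC A) Finset.univ, ← smul_eq_mul, ← Finset.sum_const]
      refine Finset.sum_congr rfl fun B hB => ?_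
      obtain ⟨x, -, rfl⟩ := Finset.mem_image.1 hB
      rw [Nat.card_eq_fintype_card, ← Fintype.card_subtype]
      have hmul : ∀ a b : G, conjC A (a * b) = conjC (conjC A b) a := fun a b => by
        simp only [conjC, Subgroup.map_map]
        congr 1
        ext u
        simp [mul_assoc]
      have hWmem : ∀ w : G, w ∈ W ↔ conjC A w = A := by
        intro w
        rw [hW, Subgroup.mem_normalizer_iff]
        constructor
        · intro hw
          ext u
          simp only [conjC, Subgroup.mem_map, MulEquiv.coe_toMonoidHom, MulAut.conj_apply]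
          constructor
          · rintro ⟨v, hv, rfl⟩; exact (hw v).1 hv
          · exact fun hu => ⟨w⁻¹ * u * w, (hw _).2 (by rwa [show w * (w⁻¹ * u * w) * w⁻¹ = u by group]), by group⟩
        · intro hw u
          conv_rhs => rw [← hw]
          simp only [conjC, Subgroup.mem_map, MulEquiv.coe_toMonoidHom, MulAut.conj_apply]
          constructor
          · exact fun hu => ⟨u, hu, rfl⟩
          · rintro ⟨v, hv, hvu⟩
            have : v = u := by simpa using hvu
            exact this ▸ hv
      refine Fintype.card_congr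
        { toFun := fun w => ⟨x * (w : G), by rw [hmul, (hWmem _).1 w.2]⟩
          invFun := fun y => ⟨x⁻¹ * (y : G), (hWmem _).2 (by
            rw [hmul, y.2, ← hmul, inv_mul_cancel]
            exact hone _)⟩
          left_inv := fun w => Subtype.ext (by simp)
          right_inv := fun y => Subtype.ext (by simp) }
    have hcls : (cls g).card = N / (k * m) := by
      have h1 : (cls g).card = W.index := by
        rw [← W.card_mul_index, mul_comm (Nat.card W)] at hcardimg
        exact Nat.eq_of_mul_eq_mul_right Nat.card_pos hcardimg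
      rw [h1, hN, hidx, hidx2, show m * (k * W.index) = k * m * W.index by ring,
        Nat.mul_div_cancel_left _ (Nat.mul_pos (Nat.pos_of_ne_zero hkpos) (by omega))]
    -- the elements of the class
    have hfib : (T.filter fun y => cls y = cls g) =
        T.filter fun y => C y ∈ cls g := by
      refine Finset.filter_congr fun y hy => ⟨fun e => e ▸ Finset.mem_image.2 ⟨1, Finset.mem_univ _,
        hone _⟩, fun hy' => ?_⟩
      obtain ⟨x, -, hx⟩ := Finset.mem_image.1 hy'
      ext B
      simp only [cls, Finset.mem_image, Finset.mem_univ, true_and, ← hx]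
      have hmul : ∀ a b : G, conjC A (a * b) = conjC (conjC A b) a := fun a b => by
        simp only [conjC, Subgroup.map_map]
        congr 1
        ext u
        simp [mul_assoc]
      constructor
      · rintro ⟨w, rfl⟩; exact ⟨w * x, hmul w x⟩
      · rintro ⟨w, rfl⟩; exact ⟨w * x⁻¹, by rw [← hmul, inv_mul_cancel_right]⟩
    rw [hfib, Finset.card_eq_sum_card_fiberwise (s := T.filter fun y => C y ∈ cls g) (f := C) (t := cls g)
      (fun y hy => (Finset.mem_filter.1 (Finset.mem_coe.1 hy)).2), ← hcls, mul_assoc, ← smul_eq_mul, ← Finset.sum_const]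
    refine Finset.sum_congr rfl fun B hB => ?_
    obtain ⟨x, -, rfl⟩ := Finset.mem_image.1 hB
    rw [hconj]
    set g' := x * g * x⁻¹ with hg'
    have hg'Z : g' ∉ Z := fun hh => hg (by
      have := (inferInstance : Z.Normal).conj_mem _ hh x⁻¹
      simpa [hg', mul_assoc] using this)
    have hZA' : Z ≤ C g' := fun u hu => Subgroup.mem_centralizer_singleton_iff.2
      (Subgroup.mem_center_iff.1 hu g').symm
    have hset : ((T.filter fun y => C y ∈ cls g).filter fun y => C y = C g') =
        (Finset.univ.filter fun y => y ∈ C g') \ (Finset.univ.filter fun y => y ∈ Z) := by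
      ext y
      simp only [Finset.mem_filter, Finset.mem_sdiff, hT, Finset.mem_univ, true_and]
      constructor
      · rintro ⟨⟨hy, -⟩, e⟩
        exact ⟨e ▸ Subgroup.mem_centralizer_singleton_iff.2 rfl, hy⟩
      · rintro ⟨hy, hyZ⟩
        have e := hCC g' hg'Z y hy hyZ
        refine ⟨⟨hyZ, ?_⟩, e⟩
        rw [e, ← hconj]
        exact Finset.mem_image_of_mem _ (Finset.mem_univ x)
    rw [hset, Finset.card_sdiff, Finset.inter_eq_left.2 (fun y hy => by
      simp only [Finset.mem_filter, Finset.mem_univ, true_and] at hy ⊢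
      exact hZA' hy)]
    rw [← Fintype.card_subtype, ← Fintype.card_subtype, ← Nat.card_eq_fintype_card, ← Nat.card_eq_fintype_card]
    have hc1 : Nat.card (C g') = Nat.card A := by
      rw [hg', ← hconj]
      exact Subgroup.card_map_of_injective (MulAut.conj x).injective
    have hc2 : Nat.card A = m * z := by
      have h1 := A.card_mul_index
      rw [← Z.card_mul_index, hidx, ← mul_assoc] at h1
      rw [mul_comm m z]
      exact Nat.eq_of_mul_eq_mul_right (Nat.pos_of_ne_zero Subgroup.index_ne_zero_of_finite) h1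
    rw [show Nat.card {y // y ∈ C g'} = m * z from hc1.trans hc2, Nat.sub_mul, one_mul]
  choose! k m hk hm hdvd hh hprop hcard hmeq hkeq using hclass
  have hrep : ∀ o ∈ O, ∃ g, g ∉ Z ∧ cls g = o := fun o ho => by
    obtain ⟨g, hg, e⟩ := Finset.mem_image.1 ho
    exact ⟨g, (Finset.mem_filter.1 hg).2, e⟩
  choose! r hrZ hr using hrep
  have hN2 : 2 ≤ N := by
    by_contra hlt
    have hab : ∀ a ∈ (⊤ : Subgroup G), ∀ b ∈ (⊤ : Subgroup G), a * b = b * a := by
      intro a _ b _
      have hN1 : Z.index = 1 := by
        have : Z.index ≠ 0 := Subgroup.index_ne_zero_of_finite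
        omega
      exact (Subgroup.mem_center_iff.1 (Subgroup.index_eq_one.1 hN1 ▸ Subgroup.mem_top b : b ∈ Z) a)
    exact no_abelian_half h ⊤ hab (by rw [Subgroup.index_top]; omega)
  refine solve O (fun o => m (r o)) (fun o => k (r o)) hN2 (fun o ho => hm _ (hrZ o ho))
    (fun o ho => hk _ (hrZ o ho)) (fun o ho => hh _ (hrZ o ho)) (fun o ho => hdvd _ (hrZ o ho))
    (fun o ho => hprop _ (hrZ o ho)) ?_
  have h1 : T.card = ∑ o ∈ O, (N / (k (r o) * m (r o)) * (m (r o) - 1)) * z := by
    rw [Finset.card_eq_sum_card_image cls T]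
    refine Finset.sum_congr rfl fun o ho => ?_
    rw [← hcard _ (hrZ o ho), hr o ho]
  have h2 : T.card = (N - 1) * z := by
    have h3 := Finset.card_filter_add_card_filter_not (s := (Finset.univ : Finset G)) (fun g => g ∈ Z)
    rw [← Fintype.card_subtype, ← Nat.card_eq_fintype_card, Finset.card_univ, ← Nat.card_eq_fintype_card,
      ← Z.card_mul_index] at h3
    rw [hT, Nat.sub_mul, one_mul, mul_comm, hN]
    have : Nat.card {x // x ∈ Z} = z := rfl
    rw [hz] at *
    omega
  rw [← Finset.sum_mul] at h1
  exact Nat.eq_of_mul_eq_mul_right hz0 (h2.symm.trans h1)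

end CfsgLib.PlaneLinear
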